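import Mathlib
import Groth.Agent.ConsPropLib.Loci
import Groth.Agent.ConsPropLib.Noetherian
import Groth.Agent.FlatLocus.Basic
import Groth.Agent.MorLib.LimCons

/-!
# Constructibility of fibrewise pointwise properties which are open on the flat locus
-/

set_option autoImplicit false
set_option linter.style.haveILetI false

universe u

open CategoryTheory Limits AlgebraicGeometry Topology

namespace Groth.Agent.FibreLoc5

/-- A property of a point in its fibre: invariant under base change and under open immersions of the source. -/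
structure Good (P : ∀ ⦃X Y : Scheme.{u}⦄, (X ⟶ Y) → X → Prop) : Prop where
  baseChange : ∀ ⦃X Y X' Y' : Scheme.{u}⦄ (f : X ⟶ Y) (p : X' ⟶ X) (q : X' ⟶ Y') (g : Y' ⟶ Y),
    IsPullback p q f g → LocallyOfFiniteType f → ∀ z, P q z ↔ P f (p z)
  source : ∀ ⦃U X Y : Scheme.{u}⦄ (j : U ⟶ X) (f : X ⟶ Y), IsOpenImmersion j → ∀ u, P (j ≫ f) u ↔ P f (j u)
  isOpen : ∀ ⦃X Y : Scheme.{u}⦄ (f : X ⟶ Y), LocallyOfFinitePresentation f →
    IsOpen {x : X | (f.stalkMap x).hom.Flat ∧ P f x}

variable {P : ∀ ⦃X Y : Scheme.{u}⦄, (X ⟶ Y) → X → Prop}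

theorem lfp_of_noetherian' {X Y : Scheme.{u}} (f : X ⟶ Y) [IsLocallyNoetherian Y] [LocallyOfFiniteType f] :
    LocallyOfFinitePresentation f := by
  rw [HasRingHomProperty.iff_appLE (P := @LocallyOfFinitePresentation)]
  intro U V e
  have hU : IsNoetherianRing Γ(Y, U) := IsLocallyNoetherian.component_noetherian U
  exact (RingHom.FinitePresentation.of_finiteType).1 (HasRingHomProperty.appLE @LocallyOfFiniteType f ‹_› U V e)

/-- Flatness over the generic point of an integral scheme. -/
theorem flat_over_genericPoint {X T : Scheme.{u}} [IsIntegral T] (f : X ⟶ T) (x : X) (h : f x = genericPoint T) :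
    (f.stalkMap x).hom.Flat := by
  have hF : IsField (T.presheaf.stalk (f x)) := by
    rw [h]
    exact Field.toIsField T.functionField
  letI := hF.toField
  letI := (f.stalkMap x).hom.toAlgebra
  show Module.Flat (T.presheaf.stalk (f x)) (X.presheaf.stalk x)
  infer_instance

theorem isConstructible_noetherian (hP : Good P) {X S : Scheme.{u}} [IsNoetherian X] [IsLocallyNoetherian S]
    (f : X ⟶ S) [LocallyOfFiniteType f] : IsConstructible {x : X | P f x} := by
  refine ConsPropLib.isConstructible_of_dichotomy _ fun T j _ _ _ => ?_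
  obtain ⟨TS, jS, _, _, hr, hgen⟩ := ConsPropLib.exists_integral_closure (f (j (genericPoint T)))
  haveI : IsLocallyNoetherian TS := LocallyOfFiniteType.isLocallyNoetherian jS
  have sub : Set.range (j ≫ f) ⊆ Set.range jS := by
    rw [hr]
    rintro _ ⟨t, rfl⟩
    exact specializes_iff_mem_closure.1 ((genericPoint_specializes t).map (j ≫ f).continuous)
  obtain ⟨a, ha⟩ := H23.RedSub.exists_lift_closed (j ≫ f) jS sub
  let l : T ⟶ pullback f jS := pullback.lift j a ha.symm
  let f₁ := pullback.snd f jS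
  haveI : LocallyOfFinitePresentation f₁ := lfp_of_noetherian' f₁
  let F : Set ↥(pullback f jS) := {x | (f₁.stalkMap x).hom.Flat}
  let W : Set ↥(pullback f jS) := {x | (f₁.stalkMap x).hom.Flat ∧ P f₁ x}
  have hW : IsOpen W := hP.isOpen f₁ inferInstance
  have hlj : ∀ t, P f₁ (l t) ↔ P f (j t) := fun t => by
    rw [hP.baseChange f (pullback.fst f jS) f₁ jS (IsPullback.of_hasPullback f jS) inferInstance (l t)]
    rw [← Scheme.Hom.comp_apply, pullback.lift_fst]
  have hFgen : genericPoint T ∈ l ⁻¹' F := by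
    refine flat_over_genericPoint f₁ _ (jS.isClosedEmbedding.injective ?_)
    rw [hgen, ← Scheme.Hom.comp_apply, ← Scheme.Hom.comp_apply, show l ≫ f₁ ≫ jS = j ≫ f from
      (pullback.lift_snd_assoc _ _ _ _).trans ha, Scheme.Hom.comp_apply]
  by_cases hne : (l ⁻¹' W).Nonempty
  · exact Or.inl (hne.mono (interior_maximal (fun t ht => (hlj t).1 ht.2) (hW.preimage l.continuous)))
  · have hsub : l ⁻¹' F ⊆ (j ⁻¹' {x : X | P f x})ᶜ := fun t ht h => hne ⟨t, ht, (hlj t).2 h⟩
    exact Or.inr ⟨genericPoint T, interior_maximal hsub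
      ((FlatLocus.isOpen_flat_locus f₁).preimage l.continuous) hFgen⟩

theorem P_comp_mono (hP : Good P) {X Y Z : Scheme.{u}} (q : X ⟶ Y) (e : Y ⟶ Z) [Mono e]
    [LocallyOfFiniteType (q ≫ e)] (x : X) : P (q ≫ e) x ↔ P q x := by
  have h : IsPullback (𝟙 X) q (q ≫ e) e :=
    IsPullback.mk ⟨by simp⟩ ⟨PullbackCone.IsLimit.mk _
      (fun s => s.fst) (fun s => by simp) (fun s => (cancel_mono e).1 (by rw [Category.assoc]; exact s.condition))
      (fun s m h1 _ => by simpa using h1)⟩
  exact (hP.baseChange _ _ _ _ h inferInstance x).symm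

theorem isLocallyConstructible (hP : Good P) {X S : Scheme.{u}} (f : X ⟶ S) [LocallyOfFinitePresentation f] :
    IsLocallyConstructible {x : X | P f x} := by
  intro x
  obtain ⟨V, hV, hxV, -⟩ := exists_isAffineOpen_mem_and_subset (U := (⊤ : S.Opens)) (x := f x) trivial
  obtain ⟨U, hU, hxU, hUV'⟩ := exists_isAffineOpen_mem_and_subset (U := f ⁻¹ᵁ V) (x := x) hxV
  have hUV : U ≤ f ⁻¹ᵁ V := hUV'
  refine ⟨U, U.2.mem_nhds hxU, U.2, ?_⟩
  haveI : IsAffine (U : Scheme.{u}) := hU
  haveI : IsAffine (V : Scheme.{u}) := hV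
  let g := f.resLE V U hUV
  haveI : LocallyOfFinitePresentation g := inferInstance
  obtain ⟨S₀, X₀, _, π, u₀, _, qX, _, _, _, _, _, -, -, sq, -⟩ := ConsPropLib.exists_model_pair g g
  haveI : IsLocallyNoetherian X₀ := LocallyOfFiniteType.isLocallyNoetherian u₀
  haveI : CompactSpace X₀ := QuasiCompact.compactSpace_of_compactSpace u₀
  haveI : IsNoetherian X₀ := {}
  have h0 := isConstructible_noetherian hP u₀
  haveI : QuasiCompact qX :=
    MorphismProperty.of_isPullback (P := @QuasiCompact) sq.flip inferInstance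
  have h1 := qX.isConstructible_preimage h0
  have hset : (U.ι ⁻¹' {x : X | P f x} : Set (U : Scheme.{u})) = qX ⁻¹' {x : X₀ | P u₀ x} := by
   ext z
   have hgf : g ≫ V.ι = U.ι ≫ f := f.resLE_comp_ι hUV
   haveI : LocallyOfFiniteType (g ≫ V.ι) := hgf ▸ inferInstance
   show P f (U.ι z) ↔ P u₀ (qX z)
   rw [← hP.source U.ι f inferInstance z, ← hgf, P_comp_mono hP g V.ι z, hP.baseChange u₀ qX g π sq inferInstance z]

  show IsConstructible (U.ι ⁻¹' {x : X | P f x} : Set (U : Scheme.{u}))
  rw [hset]
  exact h1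

theorem lc_compl {T : Type u} [TopologicalSpace T] {E : Set T} (h : IsLocallyConstructible E) :
    IsLocallyConstructible Eᶜ := fun x => by
  obtain ⟨U, hU, hUo, hc⟩ := h x
  exact ⟨U, hU, hUo, by rw [Set.preimage_compl]; exact hc.compl⟩

/-- Over a quasi-compact morphism the points of the base whose fibre has the property everywhere. -/
theorem isLocallyConstructible_forall_fibre (hP : Good P) {X S : Scheme.{u}} (f : X ⟶ S)
    [LocallyOfFinitePresentation f] [QuasiCompact f] [QuasiSeparated f] :
    IsLocallyConstructible {s : S | ∀ x, f x = s → P f x} := by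
  have h := lc_compl
    (f.isLocallyConstructible_image (lc_compl (isLocallyConstructible hP f)))
  convert h using 1
  ext s
  simp only [Set.mem_setOf_eq, Set.mem_compl_iff, Set.mem_image, not_exists, not_and]
  exact ⟨fun h x hx hxs => hx (h x hxs), fun h x hxs => by_contra fun hx => h x hx hxs⟩

end Groth.Agent.FibreLoc5
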