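import Mathlib
import Groth.Agent.FibreLoc5.Constr
import Groth.Agent.ConsPropLib.Fibre
import Groth.Agent.ConsPropLib.PointwiseProps
import Groth.Agent.S2155
import Groth.Agent.S2156

/-!
# The locus of smooth points of the fibres is constructible
-/

set_option autoImplicit false
set_option linter.style.haveILetI false

universe u

open CategoryTheory Limits AlgebraicGeometry Topology

namespace Groth.Agent.FibreLoc5

/-- The fibre through `x` is smooth over the residue field at `x`. -/
abbrev SmFib ⦃X Y : Scheme.{u}⦄ (f : X ⟶ Y) (x : X) : Prop :=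
  ((f.fiberToSpecResidueField (f x)).stalkMap (f.asFiber x)).hom.FormallySmooth

theorem formallySmooth_stalkMap_congr {Z W : Scheme.{u}} {g g' : Z ⟶ W} (e : g = g') (w : Z) :
    (g.stalkMap w).hom.FormallySmooth ↔ (g'.stalkMap w).hom.FormallySmooth := by
  subst e; rfl

theorem formallySmooth_openImmersion_comp {U Z W : Scheme.{u}} (j : U ⟶ Z) [IsOpenImmersion j] (g : Z ⟶ W) (w : U) :
    ((j ≫ g).stalkMap w).hom.FormallySmooth ↔ (g.stalkMap (j w)).hom.FormallySmooth := by
  rw [Scheme.Hom.stalkMap_comp]
  exact RingHom.FormallySmooth.respectsIso.cancel_right_isIso _ (j.stalkMap w)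

theorem lfp_fibre {X Y : Scheme.{u}} (f : X ⟶ Y) [LocallyOfFiniteType f] (y : Y) :
    LocallyOfFinitePresentation (f.fiberToSpecResidueField y) := by
  haveI : IsLocallyNoetherian (Spec (Y.residueField y)) := inferInstance
  exact lfp_of_noetherian' (f.fiberToSpecResidueField y)

theorem good_SmFib : Good.{u} SmFib where
  baseChange X Y X' Y' f p q g hsq _ z := by
    haveI : LocallyOfFiniteType q := MorphismProperty.of_isPullback (P := @LocallyOfFiniteType) hsq ‹_›
    haveI := lfp_fibre q (q z)
    haveI := lfp_fibre f (f (p z))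
    have hs : g (q z) = f (p z) := by rw [← Scheme.Hom.comp_apply, ← hsq.w, Scheme.Hom.comp_apply]
    obtain ⟨e, he, hei⟩ := ConsPropLib.exists_fibre_pullback hsq (q z)
    have key : ∀ (s : Y) (hs : f (p z) = s) (e : q.fiber (q z) ⟶ f.fiber s) (γ : Spec (Y'.residueField (q z)) ⟶ Spec (Y.residueField s))
        [Flat γ] [LocallyOfFinitePresentation (f.fiberToSpecResidueField s)],
        IsPullback e (q.fiberToSpecResidueField (q z)) (f.fiberToSpecResidueField s) γ →
        e ≫ f.fiberι s = q.fiberι (q z) ≫ p →
        (q.asFiber z ∈ (q.fiberToSpecResidueField (q z)).smoothLocus ↔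
          f.asFiber (p z) ∈ (f.fiberToSpecResidueField (f (p z))).smoothLocus) := by
      rintro s rfl e γ _ _ he hei
      rw [S2155.result _ _ _ _ he (Or.inr inferInstance)]
      have hz : e (q.asFiber z) = f.asFiber (p z) := (f.fiberι (f (p z))).isEmbedding.injective (by
        rw [← Scheme.Hom.comp_apply, hei, Scheme.Hom.comp_apply, Scheme.Hom.fiberι_asFiber, Scheme.Hom.fiberι_asFiber])
      show e (q.asFiber z) ∈ (f.fiberToSpecResidueField (f (p z))).smoothLocus ↔ _
      rw [hz]
    haveI : Flat (Spec.map (g.residueFieldMap (q z))) := by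
      rw [Flat.SpecMap_iff]
      letI := (g.residueFieldMap (q z)).hom.toAlgebra
      show Module.Flat (Y.residueField (g (q z))) (Y'.residueField (q z))
      infer_instance
    haveI := lfp_fibre f (g (q z))
    have := key (g (q z)) hs.symm e _ he hei
    exact this
  source U X Y j f _ u := by
    have key : ∀ (s : Y) (hs : f (j u) = s) (w : ↥((j ≫ f).fiber s)), (j ≫ f).fiberι s w = u →
        ((((j ≫ f).fiberToSpecResidueField s).stalkMap w).hom.FormallySmooth ↔ SmFib f (j u)) := by
      rintro s rfl w hw
      haveI : IsOpenImmersion (MoreMor.fiberMap j f (f (j u))) :=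
        MorphismProperty.of_isPullback (P := @IsOpenImmersion) (ConsPropLib.isPullback_fiberMap j f _) ‹_›
      rw [formallySmooth_stalkMap_congr (ConsPropLib.fiberMap_comp_toSpec j f (f (j u))).symm w,
        formallySmooth_openImmersion_comp]
      have h4 : MoreMor.fiberMap j f (f (j u)) w = f.asFiber (j u) :=
        (f.fiberι (f (j u))).isEmbedding.injective (by
          rw [← Scheme.Hom.comp_apply, ConsPropLib.fiberMap_comp_ι, Scheme.Hom.comp_apply, hw,
            Scheme.Hom.fiberι_asFiber])
      rw [h4]
    exact key ((j ≫ f) u) (Scheme.Hom.comp_apply j f u).symm _ ((j ≫ f).fiberι_asFiber u)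
  isOpen X Y f _ := by
    convert f.smoothLocus.2 using 1
    ext x
    haveI := lfp_fibre f (f x)
    exact (S2156.result f x).symm

theorem isLocallyConstructible_smFib {X S : Scheme.{u}} (f : X ⟶ S) [LocallyOfFinitePresentation f] :
    IsLocallyConstructible {x : X | SmFib f x} :=
  isLocallyConstructible good_SmFib f

end Groth.Agent.FibreLoc5
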