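import Mathlib
import Groth.Agent.FibreLoc5.Constr
import Groth.Agent.CMOpen5.Open
import Groth.Agent.GeomRedFlat5.Open

/-!
# Loci of Cohen-Macaulay and of geometrically reduced fibres
-/

set_option autoImplicit false
set_option linter.style.haveILetI false

universe u

open CategoryTheory Limits AlgebraicGeometry Topology IsLocalRing

namespace Groth.Agent.FibreLoc5

/-- The fibre through `x` is Cohen-Macaulay at `x`. -/
abbrev CMFib ⦃X Y : Scheme.{u}⦄ (f : X ⟶ Y) (x : X) : Prop :=
  LocCoh.IsCohenMacaulayLocalRing ((f.fiber (f x)).presheaf.stalk (f.asFiber x))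

theorem cmFib_iff_sm {X Y : Scheme.{u}} (f : X ⟶ Y) (x : X) (s : Y) (hs : f x = s) :
    CMFib f x ↔ LocCoh.IsCohenMacaulayLocalRing
      (↑(X.presheaf.stalk x) ⧸ (maximalIdeal (Y.presheaf.stalk s)).map (FibFlat.sm f x s hs)) := by
  subst hs
  refine (Triage.CMMor.isCM_congr (Triage.CMMor.exists_equiv_fibre_stalk f x).some).symm.trans ?_
  rw [FibFlat.sm_self]

theorem good_CMFib : Good.{u} CMFib where
  baseChange X Y X' Y' f p q g h _ z :=
    (cmFib_iff_sm q z (q z) rfl).trans ((CMBCAny.isCM_fibre_iff h z).trans (cmFib_iff_sm f (p z) (f (p z)) rfl).symm)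
  source U X Y j f _ u := by
    rw [cmFib_iff_sm (j ≫ f) u (f (j u)) (Scheme.Hom.comp_apply j f u), cmFib_iff_sm f (j u) (f (j u)) rfl,
      FibFlat.sm_comp j f u (j u) (f (j u)) rfl rfl]
    have hbij : Function.Bijective (FibFlat.sm j u (j u) rfl) := by
      rw [FibFlat.sm_self]
      exact ConcreteCategory.bijective_of_isIso (j.stalkMap u)
    exact (Triage.CMMor.isCM_congr (Ideal.quotientEquiv _ _ (RingEquiv.ofBijective _ hbij) (Ideal.map_map _ _).symm)).symm
  isOpen X Y f _ := CMOpen5.isOpen_isCMAt f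

theorem isLocallyConstructible_setOf_forall_CM {X S : Scheme.{u}} (f : X ⟶ S)
    [LocallyOfFinitePresentation f] [QuasiCompact f] [QuasiSeparated f] :
    IsLocallyConstructible {s : S | ∀ z : ↥(f.fiber s), LocCoh.IsCohenMacaulayLocalRing ((f.fiber s).presheaf.stalk z)} := by
  convert isLocallyConstructible_forall_fibre good_CMFib f using 1
  ext s
  constructor
  · rintro h x rfl
    exact h (f.asFiber x)
  · intro h z
    have hz := FlatDvr.fiberι_apply_eq f z
    exact (Triage.CMMor.isCM_congr
      (Triage.CMMor.exists_equiv_fibre_stalk_aux f (f.fiberι s z) s hz z rfl).some).1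
      ((cmFib_iff_sm f (f.fiberι s z) s hz).1 (h _ hz))

theorem good_E : Good.{u} (fun _ _ f x => GeomRedFlat5.E f x) where
  baseChange X Y X' Y' f p q g h _ z := GeomRedFlat5.E_iff_of_isPullback h z
  source U X Y j f _ u := GeomRedFlat5.E_comp_openImmersion j f u
  isOpen X Y f _ := GeomRedFlat5.isOpen_FE f

end Groth.Agent.FibreLoc5
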